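import Groth.Agent.Lib.UnitSmooth4.Ring
import Groth.Agent.Lib.BertiniAff5.Basic
import Groth.Agent.Lib.OmegaRank13.Basic
import Mathlib

/-!
# A generic linear form has finitely many critical points
-/

set_option autoImplicit false
set_option linter.style.haveILetI false

universe u

open TensorProduct KaehlerDifferential IsLocalRing Polynomial

namespace Groth.Agent.UnitSmooth4

variable (k : Type u) [Field k] {A : Type u} [CommRing A] [Algebra k A]

/-- The class of a differential in the fibre of the differentials of `A`. -/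
noncomputable def cfib (q : Ideal A) [q.IsPrime] : A →ₗ[k] q.ResidueField ⊗[A] Ω[A⁄k] :=
  ((TensorProduct.mk A q.ResidueField Ω[A⁄k] 1).restrictScalars k).comp (D k A).toLinearMap

theorem dfib_ne_zero {q : Ideal A} [q.IsPrime] {a : A} (h : cfib k q a ≠ 0) : dfib k q a ≠ 0 := by
  let T := Localization.AtPrime q
  have hb : IsBaseChange T (KaehlerDifferential.map k k A T) := KaehlerDifferential.isBaseChange_of_formallyEtale k A T
  let g : Ω[T⁄k] →ₗ[T] q.ResidueField ⊗[A] Ω[A⁄k] := hb.lift (TensorProduct.mk A q.ResidueField Ω[A⁄k] 1)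
  intro hz
  apply h
  have hg : LinearMap.liftBaseChange q.ResidueField g ((1 : q.ResidueField) ⊗ₜ[T] D k T (algebraMap A T a)) =
      cfib k q a := by
    rw [LinearMap.liftBaseChange_tmul, one_smul, ← map_D k k A T, hb.lift_eq]
    rfl
  rw [← hg]
  exact (congrArg _ hz).trans (map_zero _)

theorem dfib_eq_zero {q : Ideal A} [q.IsPrime] {a : A} (h : cfib k q a = 0) : dfib k q a = 0 := by
  let T := Localization.AtPrime q
  let l : Ω[A⁄k] →ₗ[A] q.ResidueField ⊗[T] Ω[T⁄k] :=
    ((TensorProduct.mk T q.ResidueField Ω[T⁄k] 1).restrictScalars A).comp (KaehlerDifferential.map k k A T)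
  have hl : LinearMap.liftBaseChange q.ResidueField l ((1 : q.ResidueField) ⊗ₜ[A] D k A a) = dfib k q a := by
    rw [LinearMap.liftBaseChange_tmul, one_smul]
    change (1 : q.ResidueField) ⊗ₜ[T] KaehlerDifferential.map k k A T (D k A a) = _
    rw [map_D]
    rfl
  rw [← hl]
  exact (congrArg _ h).trans (map_zero _)

theorem finite_localization_of_dfib [Algebra.FiniteType k A] (q : Ideal A) [q.IsPrime]
    (hc : ∀ a, dfib k q a = 0) : Module.Finite k (Localization.AtPrime q) := by
  let T := Localization.AtPrime q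
  haveI : Algebra.EssFiniteType k T := Algebra.EssFiniteType.comp k A T
  have hw : ∀ v : Ω[T⁄k], (1 : ResidueField T) ⊗ₜ[T] v = 0 := by
    intro v
    have hv : v ∈ Submodule.span T (Set.range (D k T)) := span_range_derivation k T ▸ Submodule.mem_top
    induction hv using Submodule.span_induction with
    | zero => simp
    | add x y _ _ hx hy => rw [tmul_add, hx, hy, add_zero]
    | smul t x _ hx => rw [tmul_smul, hx, smul_zero]
    | mem x hx =>
      obtain ⟨t, rfl⟩ := hx
      obtain ⟨⟨a, s⟩, hs⟩ := IsLocalization.surj q.primeCompl t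
      have h1 := congrArg (fun v => (1 : ResidueField T) ⊗ₜ[T] D k T v) hs
      simp only [Derivation.leibniz, tmul_add, tmul_smul] at h1
      rw [show (1 : ResidueField T) ⊗ₜ[T] D k T (algebraMap A T s) = 0 from hc s,
        show (1 : ResidueField T) ⊗ₜ[T] D k T (algebraMap A T a) = 0 from hc a, smul_zero, zero_add] at h1
      exact ((IsLocalization.map_units T s).smul_eq_zero).1 h1
  have hsub : Subsingleton (ResidueField T ⊗[T] Ω[T⁄k]) := by
    refine subsingleton_of_forall_eq 0 fun z => ?_
    induction z using TensorProduct.induction_on with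
    | zero => rfl
    | add x y hx hy => rw [hx, hy, add_zero]
    | tmul c w => rw [show c = c * 1 by rw [mul_one], ← smul_eq_mul, ← smul_tmul', hw, smul_zero]
  haveI : Subsingleton Ω[T⁄k] := IsLocalRing.subsingleton_tensorProduct.1 hsub
  haveI : Algebra.FormallyUnramified k T := ⟨inferInstance⟩
  exact Algebra.FormallyUnramified.finite_of_free k T

/-- A prime whose local ring is finite over `k` is an open point. -/
theorem isOpen_singleton_of_finite [Algebra.FiniteType k A] (q : PrimeSpectrum A)
    [Module.Finite k (Localization.AtPrime q.asIdeal)] : IsOpen ({q} : Set (PrimeSpectrum A)) := by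
  classical
  haveI : IsNoetherianRing A := Algebra.FiniteType.isNoetherianRing k A
  haveI : IsArtinianRing (Localization.AtPrime q.asIdeal) := IsArtinianRing.of_finite k _
  have hmin : ∀ z : Ideal A, z.IsPrime → z ≤ q.asIdeal → z = q.asIdeal := by
    intro z hz hle
    let T := Localization.AtPrime q.asIdeal
    have hd : Disjoint (q.asIdeal.primeCompl : Set A) (z : Set A) :=
      Set.disjoint_left.2 fun a ha haz => ha (hle haz)
    haveI := IsLocalization.isPrime_of_isPrime_disjoint q.asIdeal.primeCompl T z hz hd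
    haveI := IsArtinianRing.isMaximal_of_isPrime (z.map (algebraMap A T))
    have he := IsLocalRing.eq_maximalIdeal (I := z.map (algebraMap A T)) inferInstance
    rw [← IsLocalization.under_map_of_isPrime_disjoint q.asIdeal.primeCompl T hz hd, he,
      IsLocalization.AtPrime.under_maximalIdeal T q.asIdeal]
  haveI : Module.Finite k (ResidueField (Localization.AtPrime q.asIdeal)) :=
    Module.Finite.trans (Localization.AtPrime q.asIdeal) _
  have hmax : q.asIdeal.IsMaximal := by
    haveI : Algebra.IsIntegral k q.asIdeal.ResidueField := Algebra.IsIntegral.of_finite k _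
    haveI : Algebra.IsIntegral A q.asIdeal.ResidueField := Algebra.IsIntegral.tower_top k
    have := Ideal.isMaximal_comap_of_isIntegral_of_isMaximal (R := A) (⊥ : Ideal q.asIdeal.ResidueField)
    rwa [← RingHom.ker_eq_comap_bot, Ideal.ker_algebraMap_residueField] at this
  have hcompl : ({q} : Set (PrimeSpectrum A))ᶜ =
      ⋃ P ∈ (minimalPrimes A \ {q.asIdeal}), PrimeSpectrum.zeroLocus (P : Set A) := by
    ext z
    simp only [Set.mem_compl_iff, Set.mem_singleton_iff, Set.mem_iUnion, Set.mem_sdiff,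
      PrimeSpectrum.mem_zeroLocus, exists_prop, SetLike.coe_subset_coe]
    constructor
    · intro hz
      obtain ⟨P, hP, hPz⟩ := Ideal.exists_minimalPrimes_le (bot_le : ⊥ ≤ z.asIdeal)
      exact ⟨P, ⟨hP, fun h => hz (PrimeSpectrum.ext (hmax.eq_of_le z.2.ne_top (h ▸ hPz)).symm)⟩, hPz⟩
    · rintro ⟨P, ⟨hP, hne⟩, hPz⟩ rfl
      exact hne (hmin P hP.1.1 hPz)
  rw [← isClosed_compl_iff, hcompl]
  exact Set.Finite.isClosed_biUnion ((minimalPrimes.finite_of_isNoetherianRing A).subset Set.sdiff_subset)
    fun _ _ => PrimeSpectrum.isClosed_zeroLocus _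

variable {B : Type u} [CommRing B] [Algebra k B] [Algebra.FiniteType k B]

/-- The number of a basis of differentials bounds the dimension. -/
theorem ringKrullDim_le_card {κ : Type} [Fintype κ] (b : Module.Basis κ B Ω[B⁄k]) :
    ringKrullDim B ≤ (Fintype.card κ : ℕ) := by
  refine iSup_le fun s => ?_
  obtain ⟨P, hP, hPs⟩ := Ideal.exists_minimalPrimes_le (bot_le : ⊥ ≤ s.head.asIdeal)
  haveI : P.IsPrime := hP.1.1
  let t : LTSeries (PrimeSpectrum.zeroLocus (P : Set B)) :=
    { length := s.length
      toFun := fun i => ⟨s i, fun a ha => s.monotone (Fin.zero_le i) (hPs ha)⟩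
      step := fun i => s.step i }
  have h1 := Order.LTSeries.length_le_krullDim t
  rw [← ringKrullDim_quotient] at h1
  have h2 : (t.length : WithBot ℕ∞) ≤ ringKrullDim (B ⧸ P) := h1
  have h3 := OmegaRank13.main (k := k) B s.length P P le_rfl h2
  haveI : Nontrivial B := ⟨⟨0, 1, fun h => hP.1.1.ne_top ((Ideal.eq_top_iff_one P).2 (h ▸ P.zero_mem))⟩⟩
  rw [Module.finrank_eq_card_basis (b.baseChange P.ResidueField)] at h3
  exact_mod_cast h3

/-- For a generic linear form, an element is algebraic along the critical locus. -/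
theorem exists_poly_critical {n : ℕ} (x : Fin n → B) {κ : Type} [Fintype κ] (b : Module.Basis κ B Ω[B⁄k])
    (a : κ → Fin n) (hb : ∀ l, b l = D k B (x (a l))) (y : B) :
    ∃ G : MvPolynomial (Fin n) k, G ≠ 0 ∧ ∀ α : Fin n → k, MvPolynomial.eval α G ≠ 0 →
      IsIntegral k (Ideal.Quotient.mk (Ideal.span (Set.range fun l =>
        ∑ i, algebraMap k B (α i) * b.repr (D k B (x i)) l)) y) := by
  classical
  rcases subsingleton_or_nontrivial B with hB | hB
  · exact ⟨1, one_ne_zero, fun α _ => by rw [Subsingleton.elim y 1, map_one]; exact isIntegral_one⟩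
  haveI : IsNoetherianRing B := Algebra.FiniteType.isNoetherianRing k B
  let c : Fin n → κ → B := fun i l => b.repr (D k B (x i)) l
  have ha : Function.Injective a := fun l l' h => b.injective (by rw [hb, hb, h])
  have hc : ∀ l l', c (a l') l = if l' = l then 1 else 0 := fun l l' => by
    simp only [c, ← hb, Module.Basis.repr_self, Finsupp.single_apply]
  let J : Finset (Fin n) := Finset.univ.image a
  let D' := MvPolynomial {i : Fin n // i ∉ J} B
  let T : Fin n → D' := fun i => if h : i ∈ J then 0 else MvPolynomial.X ⟨i, h⟩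
  let V : Fin n → D' := fun i => T i - ∑ l, if a l = i then ∑ j, T j * algebraMap B D' (c j l) else 0
  let ψ : MvPolynomial (Fin (n + 1)) k →ₐ[k] D' :=
    MvPolynomial.aeval (Fin.cons (algebraMap B D' y) V)
  have hker : ∃ G, G ≠ 0 ∧ ψ G = 0 := by
    by_contra hcon
    push Not at hcon
    have hdimD : ringKrullDim D' ≤ (n : ℕ) := by
      rw [MvPolynomial.ringKrullDim_of_isNoetherianRing, Nat.card_eq_fintype_card, Fintype.card_subtype_compl,
        Fintype.card_fin, Fintype.card_coe, Finset.card_image_of_injective _ ha, Finset.card_univ]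
      have hrn : Fintype.card κ ≤ n := (Fintype.card_le_of_injective a ha).trans (Fintype.card_fin n).le
      calc ringKrullDim B + ((n - Fintype.card κ : ℕ) : WithBot ℕ∞) ≤
            (Fintype.card κ : WithBot ℕ∞) + ((n - Fintype.card κ : ℕ) : WithBot ℕ∞) :=
            add_le_add_left (ringKrullDim_le_card k b) _
        _ = _ := by rw [← Nat.cast_add, Nat.add_sub_cancel' hrn]
    obtain ⟨Q, hQ, hdis⟩ := Ideal.exists_le_prime_disjoint (⊥ : Ideal D')
      ((nonZeroDivisors (MvPolynomial (Fin (n + 1)) k)).map ψ) (by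
        rw [Set.disjoint_left]
        rintro z hz ⟨G, hG, rfl⟩
        exact hcon G (nonZeroDivisors.ne_zero hG) hz)
    haveI : Algebra.FiniteType k D' := Algebra.FiniteType.trans (S := B) inferInstance inferInstance
    haveI := hQ.1
    let φ : MvPolynomial (Fin (n + 1)) k →ₐ[k] D' ⧸ Q := (Ideal.Quotient.mkₐ k Q).comp ψ
    have hφ : Function.Injective φ := by
      rw [injective_iff_map_eq_zero]
      intro G hG
      by_contra hne
      exact Set.disjoint_left.1 hdis.2 (Ideal.Quotient.eq_zero_iff_mem.1 hG)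
        ⟨G, mem_nonZeroDivisors_of_ne_zero hne, rfl⟩
    have h1 := trdeg_le_of_injective φ hφ
    rw [VarDim.trdeg_mvPolynomial k, VarDim.trdeg_eq_tdeg k (D' ⧸ Q)] at h1
    have h2 : ((VarDim.tdeg k (D' ⧸ Q) : ℕ) : WithBot ℕ∞) ≤ (n : ℕ) :=
      (VarDim.ringKrullDim_eq_tdeg k (D' ⧸ Q)).ge.trans ((ringKrullDim_quotient_le Q).trans hdimD)
    have h1' : n + 1 ≤ VarDim.tdeg k (D' ⧸ Q) := by exact_mod_cast h1
    have h2' : VarDim.tdeg k (D' ⧸ Q) ≤ n := by exact_mod_cast h2
    omega
  obtain ⟨G, hG0, hG⟩ := hker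
  let P := MvPolynomial.finSuccEquiv k n G
  have hP : P ≠ 0 := (map_ne_zero_iff _ (MvPolynomial.finSuccEquiv k n).injective).2 hG0
  refine ⟨P.leadingCoeff, Polynomial.leadingCoeff_ne_zero.2 hP, fun α hα => ?_⟩
  let I := Ideal.span (Set.range fun l => ∑ i, algebraMap k B (α i) * b.repr (D k B (x i)) l)
  let ev : D' →ₐ[B] B ⧸ I := MvPolynomial.aeval fun i => algebraMap k (B ⧸ I) (α i.1)
  have hevB : ∀ z : B, ev (algebraMap B D' z) = Ideal.Quotient.mk I z := fun z => ev.commutes z
  have hevT : ∀ i, ev (T i) = if i ∈ J then 0 else algebraMap k (B ⧸ I) (α i) := by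
    intro i
    simp only [T]
    split_ifs with h
    · exact map_zero _
    · exact MvPolynomial.aeval_X _ _
  have hsum : ∀ l, ∑ j, ev (T j) * Ideal.Quotient.mk I (c j l) = -algebraMap k (B ⧸ I) (α (a l)) := by
    intro l
    have hβ : ∑ i, algebraMap k (B ⧸ I) (α i) * Ideal.Quotient.mk I (c i l) = 0 := by
      have := Ideal.Quotient.eq_zero_iff_mem.2
        (Ideal.subset_span ⟨l, rfl⟩ : ∑ i, algebraMap k B (α i) * b.repr (D k B (x i)) l ∈ I)
      simpa [map_sum, map_mul, c] using this
    rw [eq_neg_iff_add_eq_zero, ← hβ]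
    conv_rhs => rw [← Finset.sum_filter_add_sum_filter_not _ (fun j => j ∈ J)]
    have h1 : ∑ j ∈ Finset.univ.filter (fun j => j ∈ J), algebraMap k (B ⧸ I) (α j) * Ideal.Quotient.mk I (c j l) =
        algebraMap k (B ⧸ I) (α (a l)) := by
      rw [Finset.filter_univ_mem, Finset.sum_image (fun _ _ _ _ h => ha h), Finset.sum_eq_single l]
      · rw [hc, if_pos rfl, map_one, mul_one]
      · intro l' _ hne
        rw [hc, if_neg hne, map_zero, mul_zero]
      · simp
    rw [h1, add_comm]
    congr 1
    rw [Finset.sum_filter]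
    refine Finset.sum_congr rfl fun j _ => ?_
    rw [hevT]
    split_ifs <;> simp_all
  have hV : ∀ i, ev (V i) = algebraMap k (B ⧸ I) (α i) := by
    intro i
    simp only [V, map_sub, map_sum, apply_ite ev, map_zero, map_mul, hevB, hsum]
    rw [hevT]
    by_cases hi : i ∈ J
    · obtain ⟨l, -, rfl⟩ := Finset.mem_image.1 hi
      rw [if_pos hi, Finset.sum_eq_single l (fun l' _ hne => if_neg fun h => hne (ha h)) (by simp), if_pos rfl]
      ring
    · rw [if_neg hi, Finset.sum_eq_zero fun l _ => if_neg fun h => hi (by rw [← h]; exact Finset.mem_image_of_mem a (Finset.mem_univ l)),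
        sub_zero]
  let evα : MvPolynomial (Fin n) k →ₐ[k] k := MvPolynomial.aeval α
  let rhs : MvPolynomial (Fin (n + 1)) k →ₐ[k] B ⧸ I :=
    ((Polynomial.aeval (Ideal.Quotient.mk I y)).comp (Polynomial.mapAlgHom evα)).comp
      (MvPolynomial.finSuccEquiv k n).toAlgHom
  have hcomp : (ev.restrictScalars k).comp ψ = rhs := by
    refine MvPolynomial.algHom_ext fun j => ?_
    refine Fin.cases ?_ (fun i => ?_) j
    · simp [rhs, ψ, hevB, MvPolynomial.finSuccEquiv_X_zero]
    · simp [rhs, ψ, hV, MvPolynomial.finSuccEquiv_X_succ, evα]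
  have h0 := AlgHom.congr_fun hcomp G
  simp only [AlgHom.comp_apply, hG, map_zero] at h0
  have hne : P.map (evα : MvPolynomial (Fin n) k →+* k) ≠ 0 := by
    intro hz
    apply hα
    have := congrArg (fun q => q.coeff P.natDegree) hz
    simpa [Polynomial.coeff_map, evα, MvPolynomial.aeval_eq_eval] using this
  exact (IsAlgebraic.isIntegral ⟨_, hne, h0.symm⟩)

/-- For a generic linear form the critical locus in a chart is finite. -/
theorem exists_poly_finite {n : ℕ} (x : Fin n → B) {κ : Type} [Fintype κ] (b : Module.Basis κ B Ω[B⁄k])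
    (a : κ → Fin n) (hb : ∀ l, b l = D k B (x (a l))) :
    ∃ G : MvPolynomial (Fin n) k, G ≠ 0 ∧ ∀ α : Fin n → k, MvPolynomial.eval α G ≠ 0 →
      Module.Finite k (B ⧸ Ideal.span (Set.range fun l => ∑ i, algebraMap k B (α i) * b.repr (D k B (x i)) l)) := by
  classical
  obtain ⟨s, hs⟩ := (Algebra.FiniteType.out : (⊤ : Subalgebra k B).FG)
  choose G hG0 hG using fun y => exists_poly_critical k x b a hb y
  refine ⟨∏ y ∈ s, G y, Finset.prod_ne_zero_iff.2 fun y _ => hG0 y, fun α hα => ?_⟩
  let I := Ideal.span (Set.range fun l => ∑ i, algebraMap k B (α i) * b.repr (D k B (x i)) l)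
  have h1 : (Algebra.adjoin k ((Ideal.Quotient.mkₐ k I) '' (s : Set B))).toSubmodule.FG := by
    refine fg_adjoin_of_finite (s.finite_toSet.image _) ?_
    rintro _ ⟨y, hy, rfl⟩
    refine hG y α fun h => hα ?_
    rw [map_prod]
    exact Finset.prod_eq_zero hy h
  rw [← AlgHom.map_adjoin, hs, Algebra.map_top,
    (AlgHom.range_eq_top _).2 Ideal.Quotient.mk_surjective, Algebra.top_toSubmodule] at h1
  exact ⟨h1⟩

/-- Near `p`, a unit which is smooth over the line on a smooth open set. -/
theorem exists_unit_smooth_on [Infinite k] [Algebra.FiniteType k A]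
    (U : Set (PrimeSpectrum A)) (hUo : IsOpen U) (hU : U ⊆ Algebra.smoothLocus k A)
    (p : PrimeSpectrum A) (hp : p ∈ U → ¬ IsOpen ({p} : Set (PrimeSpectrum A))) :
    ∃ v h : A, h ∉ p.asIdeal ∧ v ∣ h ∧ ∀ z ∈ U, h ∉ z.asIdeal →
      ∃ f : A, f ∉ z.asIdeal ∧ h ∣ f ∧ (↑(PrimeSpectrum.basicOpen f) : Set (PrimeSpectrum A)) ⊆ U ∧
        ((algebraMap A (Localization.Away f)).comp (aeval (R := k) v).toRingHom).Smooth := by
  classical
  haveI : IsNoetherianRing A := Algebra.FiniteType.isNoetherianRing k A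
  haveI : Algebra.FinitePresentation k A := Algebra.FinitePresentation.of_finiteType.1 inferInstance
  obtain ⟨n, π, hπ⟩ := Algebra.FiniteType.iff_quotient_mvPolynomial''.1 (inferInstance : Algebra.FiniteType k A)
  let x : Fin n → A := fun i => π (MvPolynomial.X i)
  have hx : Function.Surjective (MvPolynomial.aeval x : MvPolynomial (Fin n) k →ₐ[k] A) := by
    rw [show (MvPolynomial.aeval x : MvPolynomial (Fin n) k →ₐ[k] A) = π from
      MvPolynomial.algHom_ext fun i => by simp [x]]
    exact hπ
  choose g hg κ hκ a b hb using fun z : U => by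
    haveI : Algebra.IsSmoothAt k z.1.asIdeal := hU z.2
    exact BertiniAff5.exists_chart x hx z.1.asIdeal
  obtain ⟨t, ht⟩ := (TopologicalSpace.NoetherianSpace.isCompact U).elim_finite_subcover
    (fun z : U => (PrimeSpectrum.basicOpen (g z) : Set (PrimeSpectrum A))) (fun _ => (PrimeSpectrum.basicOpen _).2)
    (fun z hz => Set.mem_iUnion.2 ⟨⟨z, hz⟩, hg ⟨z, hz⟩⟩)
  haveI : ∀ z, Fintype (κ z) := hκ
  choose G hG0 hG using fun z : U => @exists_poly_finite k _ (Localization.Away (g z)) _ _
    (haveI := IsLocalization.finiteType_of_monoid_fg (Submonoid.powers (g z)) (Localization.Away (g z));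
      Algebra.FiniteType.trans (S := A) inferInstance inferInstance)
    n (fun i => algebraMap A _ (x i)) (κ z) (hκ z) (b z) (a z) (hb z)
  obtain ⟨L, hL0, hL⟩ : ∃ L : MvPolynomial (Fin n) k, L ≠ 0 ∧ (p ∈ U → ∀ α : Fin n → k,
      MvPolynomial.eval α L ≠ 0 → cfib k p.asIdeal (∑ i, α i • x i) ≠ 0) := by
    by_cases hpU : p ∈ U
    · obtain ⟨i₀, hi₀⟩ : ∃ i, cfib k p.asIdeal (x i) ≠ 0 := by
        by_contra hc
        push Not at hc
        have hall : ∀ w : Ω[A⁄k], (1 : p.asIdeal.ResidueField) ⊗ₜ[A] w = 0 := by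
          intro w
          have hw : w ∈ Submodule.span A (Set.range fun i => D k A (x i)) :=
            BertiniAff5.span_D x hx ▸ Submodule.mem_top
          induction hw using Submodule.span_induction with
          | zero => simp
          | add x y _ _ hx hy => rw [tmul_add, hx, hy, add_zero]
          | smul t x _ hx => rw [tmul_smul, hx, smul_zero]
          | mem x hx => obtain ⟨i, rfl⟩ := hx; exact hc i
        haveI := finite_localization_of_dfib k p.asIdeal fun a => dfib_eq_zero k (hall (D k A a))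
        exact hp hpU (isOpen_singleton_of_finite k p)
      obtain ⟨φ, hφ⟩ := exists_avoid.exists_dual_ne_zero' k hi₀
      refine ⟨∑ i, MvPolynomial.C (φ (cfib k p.asIdeal (x i))) * MvPolynomial.X i, fun hz => hφ ?_, fun _ α hα hz => hα ?_⟩
      · simpa [MvPolynomial.coeff_sum, MvPolynomial.coeff_C_mul, MvPolynomial.coeff_X, Finsupp.single_left_inj] using
          congrArg (MvPolynomial.coeff (Finsupp.single i₀ 1)) hz
      · have := congrArg φ hz
        simp only [map_sum, map_smul, map_zero, smul_eq_mul] at this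
        simpa [map_sum, mul_comm] using this
    · exact ⟨1, one_ne_zero, fun h => absurd h hpU⟩
  obtain ⟨α, hα⟩ : ∃ α, MvPolynomial.eval α (L * ∏ z ∈ t, G z) ≠ 0 := by
    by_contra hc
    push Not at hc
    exact mul_ne_zero hL0 (Finset.prod_ne_zero_iff.2 fun z _ => hG0 z)
      (MvPolynomial.funext fun c => by rw [hc c, map_zero])
  rw [map_mul, map_prod, mul_ne_zero_iff, Finset.prod_ne_zero_iff] at hα
  let v₀ : A := ∑ i, α i • x i
  obtain ⟨c₀, hc₀⟩ : ∃ c₀ : k, v₀ + algebraMap k A c₀ ∉ p.asIdeal := by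
    by_contra hc
    push Not at hc
    have h0 := hc 0
    rw [map_zero, add_zero] at h0
    have h1 := (Ideal.add_mem_iff_right p.asIdeal h0).1 (hc 1)
    rw [map_one] at h1
    exact p.2.ne_top ((Ideal.eq_top_iff_one _).2 h1)
  let v := v₀ + algebraMap k A c₀
  have hcv : ∀ (q : Ideal A) [q.IsPrime], cfib k q v = cfib k q v₀ := fun q _ => by
    rw [map_add, Algebra.algebraMap_eq_smul_one, map_smul, show cfib k q (1 : A) = 0 by simp [cfib],
      smul_zero, add_zero]
  let Z : Set (PrimeSpectrum A) := {z | z ∈ U ∧ cfib k z.asIdeal v = 0}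
  have hZ : Z.Finite ∧ ∀ z ∈ Z, z.asIdeal.IsMaximal := by
    have hZg : ∀ z₀ ∈ t, ∃ S : Set (PrimeSpectrum A), S.Finite ∧ (∀ z ∈ S, z.asIdeal.IsMaximal) ∧
        ∀ z ∈ Z, g z₀ ∉ z.asIdeal → z ∈ S := by
      intro z₀ hz₀
      let B := Localization.Away (g z₀)
      let I := Ideal.span (Set.range fun l => ∑ i, algebraMap k B (α i) * (b z₀).repr (D k B (algebraMap A B (x i))) l)
      haveI : Module.Finite k (B ⧸ I) := hG z₀ α (hα.2 z₀ hz₀)
      haveI : IsArtinianRing (B ⧸ I) := IsArtinianRing.of_finite k _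
      haveI : Module.Finite A (B ⧸ I) := Module.Finite.of_restrictScalars_finite k A (B ⧸ I)
      refine ⟨Set.range (PrimeSpectrum.comap (algebraMap A (B ⧸ I))), Set.finite_range _, ?_, ?_⟩
      · rintro _ ⟨P, rfl⟩
        exact Ideal.isMaximal_comap_of_isIntegral_of_isMaximal P.asIdeal
      · intro z hz hgz
        have hu : IsUnit (algebraMap A z.asIdeal.ResidueField (g z₀)) :=
          IsUnit.mk0 _ (by rwa [ne_eq, Ideal.algebraMap_residueField_eq_zero])
        let χ : B →+* z.asIdeal.ResidueField := IsLocalization.Away.lift (g z₀) hu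
        have hχ : ∀ a, χ (algebraMap A B a) = algebraMap A z.asIdeal.ResidueField a :=
          fun a => IsLocalization.Away.lift_eq (g z₀) hu a
        let χ' : B →ₐ[A] z.asIdeal.ResidueField := { χ with commutes' := hχ }
        have hI : ∀ w ∈ I, χ w = 0 := by
          intro w hw
          refine Submodule.span_induction ?_ (map_zero χ) (fun x y _ _ hx hy => by rw [map_add, hx, hy, add_zero])
            (fun c x _ hx => by rw [smul_eq_mul, map_mul, hx, mul_zero]) hw
          rintro _ ⟨l, rfl⟩
          let Ll : Ω[A⁄k] →ₗ[A] z.asIdeal.ResidueField :=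
            χ'.toLinearMap.comp ((((b z₀).coord l).restrictScalars A).comp (KaehlerDifferential.map k k A B))
          have h0 : Ll (D k A v₀) = 0 := by
            have := congrArg (LinearMap.liftBaseChange z.asIdeal.ResidueField Ll) ((hcv z.asIdeal).symm.trans hz.2)
            rw [map_zero] at this
            simpa [cfib] using this
          have h1 : D k B (algebraMap A B v₀) = ∑ i, algebraMap k B (α i) • D k B (algebraMap A B (x i)) := by
            simp only [v₀, map_sum]
            refine Finset.sum_congr rfl fun i _ => ?_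
            rw [← IsScalarTower.coe_toAlgHom' k A B, map_smul, Derivation.map_smul, IsScalarTower.coe_toAlgHom', algebraMap_smul]
          simp only [Ll, LinearMap.comp_apply, map_D, LinearMap.restrictScalars_apply, h1, map_sum, map_smul,
            Module.Basis.coord_apply, smul_eq_mul] at h0
          rw [map_sum]
          exact h0
        refine ⟨⟨RingHom.ker (Ideal.Quotient.lift I χ hI), RingHom.ker_isPrime _⟩, PrimeSpectrum.ext ?_⟩
        ext w
        change Ideal.Quotient.lift I χ hI (Ideal.Quotient.mk I (algebraMap A B w)) = 0 ↔ w ∈ z.asIdeal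
        rw [Ideal.Quotient.lift_mk, hχ, Ideal.algebraMap_residueField_eq_zero]
    choose S hSf hSm hS using hZg
    have hsub : Z ⊆ ⋃ (z₀ : U) (h : z₀ ∈ t), S z₀ h := fun z hz => by
      obtain ⟨z₀, hz₀, hmem⟩ := Set.mem_iUnion₂.1 (ht hz.1)
      exact Set.mem_iUnion₂.2 ⟨z₀, hz₀, hS z₀ hz₀ z hz hmem⟩
    refine ⟨(t.finite_toSet.biUnion' fun z hz => hSf z hz).subset hsub, fun z hz => ?_⟩
    obtain ⟨z₀, hz₀, hmem⟩ := Set.mem_iUnion₂.1 (hsub hz)
    exact hSm z₀ hz₀ z hmem
  have hpick : ∀ z ∈ Z, ∃ w ∈ z.asIdeal, w ∉ p.asIdeal := by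
    intro z hz
    by_contra hc
    push Not at hc
    obtain rfl : z = p := PrimeSpectrum.ext ((hZ.2 z hz).eq_of_le p.2.ne_top hc)
    exact hL hz.1 α hα.1 ((hcv z.asIdeal).symm.trans hz.2)
  choose w hwz hwp using hpick
  let h : A := v * ∏ z ∈ hZ.1.toFinset.attach, w z.1 (hZ.1.mem_toFinset.1 z.2)
  refine ⟨v, h, ?_, dvd_mul_right _ _, fun z hzU hzh => ?_⟩
  · refine fun hh => (p.2.mem_or_mem hh).elim hc₀ fun h' => ?_
    obtain ⟨z, -, hz⟩ := p.2.prod_mem_iff.1 h'
    exact hwp _ _ hz
  have hzZ : z ∉ Z := fun hz => hzh (z.asIdeal.mul_mem_left _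
    (z.2.prod_mem_iff.2 ⟨⟨z, hZ.1.mem_toFinset.2 hz⟩, Finset.mem_attach _ _, hwz z hz⟩))
  have hv : dfib k z.asIdeal v ≠ 0 := dfib_ne_zero k fun hh => hzZ ⟨hzU, hh⟩
  let T := Localization.AtPrime z.asIdeal
  letI : Algebra k[X] A := (aeval (R := k) v).toRingHom.toAlgebra
  haveI : IsScalarTower k k[X] A := IsScalarTower.of_algebraMap_eq fun c => ((aeval (R := k) v).commutes c).symm
  haveI : Algebra.FiniteType k[X] A := Algebra.FiniteType.of_restrictScalars_finiteType k k[X] A
  haveI : Algebra.FinitePresentation k[X] A := Algebra.FinitePresentation.of_finiteType.1 inferInstance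
  haveI : Algebra.EssFiniteType k T := Algebra.EssFiniteType.comp k A T
  haveI : Algebra.FormallySmooth k T := hU hzU
  haveI : IsScalarTower k k[X] T := IsScalarTower.of_algebraMap_eq fun c => by
    rw [IsScalarTower.algebraMap_apply k[X] A T, IsScalarTower.algebraMap_apply k A T,
      IsScalarTower.algebraMap_apply k k[X] A]
  haveI : Algebra.IsSmoothAt k[X] z.asIdeal := formallySmooth_polynomial k T (by
    rw [show algebraMap k[X] T X = algebraMap A T v by
      rw [IsScalarTower.algebraMap_apply k[X] A T]; simp [RingHom.algebraMap_toAlgebra]]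
    exact hv)
  obtain ⟨f₀, hf₀, hf₀'⟩ := Algebra.IsSmoothAt.exists_notMem_smooth k[X] z.asIdeal
  obtain ⟨_, ⟨_, ⟨f₁, rfl⟩, rfl⟩, hf₁, hf₁U⟩ :=
    PrimeSpectrum.isBasis_basic_opens.exists_subset_of_mem_open hzU hUo
  let f := f₀ * f₁ * h
  refine ⟨f, fun hf => ?_, dvd_mul_left _ _, fun q hq => hf₁U ?_, ?_⟩
  · rcases z.2.mem_or_mem hf with h' | h'
    · exact (z.2.mem_or_mem h').elim hf₀ hf₁
    · exact hzh h'
  · exact fun hq' => hq (q.asIdeal.mul_mem_right _ (q.asIdeal.mul_mem_left _ hq'))
  have h3 : Algebra.Smooth k[X] (Localization.Away f) :=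
    Algebra.basicOpen_subset_smoothLocus_iff_smooth.1 (Set.Subset.trans
      (fun q hq hq' => hq (q.asIdeal.mul_mem_right _ (q.asIdeal.mul_mem_right _ hq')))
      (Algebra.basicOpen_subset_smoothLocus_iff_smooth.2 hf₀'))
  have : (algebraMap k[X] (Localization.Away f)).Smooth := RingHom.smooth_algebraMap.2 h3
  rwa [IsScalarTower.algebraMap_eq k[X] A (Localization.Away f)] at this

end Groth.Agent.UnitSmooth4
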