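import Groth.Agent.Lib.TowerSmooth5.Basic
import Mathlib

/-!
# Adjusting a function by a unit to make it smooth at given points
-/

set_option autoImplicit false
set_option linter.style.haveILetI false

universe u

open TensorProduct KaehlerDifferential IsLocalRing Polynomial

namespace Groth.Agent.UnitSmooth4

variable (k : Type u) [Field k]

/-- Over a local formally smooth algebra, an element with nonzero differential in the residual
fibre defines a formally smooth map from the polynomial ring. -/
theorem formallySmooth_polynomial (T : Type u) [CommRing T] [IsLocalRing T] [Algebra k T]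
    [Algebra k[X] T] [IsScalarTower k k[X] T]
    [Algebra.FormallySmooth k T] [Algebra.EssFiniteType k T]
    (h : (1 : ResidueField T) ⊗ₜ[T] D k T (algebraMap k[X] T X) ≠ 0) :
    Algebra.FormallySmooth k[X] T := by
  classical
  let d := D k T (algebraMap k[X] T X)
  haveI : Module.Free T Ω[T⁄k] := Module.free_of_flat_of_isLocalRing
  let b := Module.Free.chooseBasis T Ω[T⁄k]
  obtain ⟨i, hi⟩ : ∃ i, IsUnit (b.repr d i) := by
    by_contra hc
    push Not at hc
    apply h
    change (1 : ResidueField T) ⊗ₜ[T] d = 0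
    conv_lhs => rw [← b.linearCombination_repr d, Finsupp.linearCombination_apply, Finsupp.sum, tmul_sum]
    refine Finset.sum_eq_zero fun j _ => ?_
    rw [← smul_tmul, Algebra.smul_def, mul_one,
      show algebraMap T (ResidueField T) (b.repr d j) = 0 from (residue_eq_zero_iff _).2 (hc j), zero_tmul]
  obtain ⟨e, he⟩ := hi
  let φ : Ω[T⁄k] →ₗ[T] T := (↑e⁻¹ : T) • (Finsupp.lapply i ∘ₗ b.repr.toLinearMap)
  have hφ : φ d = 1 := by
    show (↑e⁻¹ : T) * b.repr d i = 1
    rw [← he, Units.inv_mul]
  let r : Ω[T⁄k] →ₗ[T] T ⊗[k[X]] Ω[k[X]⁄k] := φ.smulRight (1 ⊗ₜ D k k[X] X)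
  refine (TowerSmooth5.formallySmooth_iff k k[X] T).2 ⟨r, ?_⟩
  apply LinearMap.ext
  intro z
  simp only [LinearMap.comp_apply, LinearMap.id_apply]
  induction z using TensorProduct.induction_on with
  | zero => simp
  | add x y hx hy => rw [map_add, map_add, hx, hy]
  | tmul t w =>
    obtain ⟨p, rfl⟩ : ∃ p : k[X], w = p • D k k[X] X :=
      ⟨polynomialEquiv k w, by rw [← polynomialEquiv_symm, LinearEquiv.symm_apply_apply]⟩
    rw [← smul_tmul, mapBaseChange_tmul, map_D, map_smul, LinearMap.smulRight_apply]
    change (p • t) • φ d • ((1 : T) ⊗ₜ D k k[X] X) = _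
    rw [hφ, one_smul, smul_tmul', smul_eq_mul, mul_one]

variable {A : Type u} [CommRing A] [Algebra k A]

/-- The class of a differential in the residual fibre at a prime. -/
noncomputable def dfib (q : Ideal A) [q.IsPrime] :
    A →ₗ[k] ResidueField (Localization.AtPrime q) ⊗[Localization.AtPrime q] Ω[Localization.AtPrime q⁄k] :=
  ((TensorProduct.mk (Localization.AtPrime q) (ResidueField (Localization.AtPrime q))
      Ω[Localization.AtPrime q⁄k] 1).restrictScalars k).comp
    ((KaehlerDifferential.D k (Localization.AtPrime q)).toLinearMap.comp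
      (IsScalarTower.toAlgHom k A (Localization.AtPrime q)).toLinearMap)

theorem exists_dfib_ne_zero [Algebra.FiniteType k A] {q p : Ideal A} [q.IsPrime] (hp : p ≠ ⊤) (hqp : q < p) :
    ∃ a : A, dfib k q a ≠ 0 := by
  by_contra hc
  push Not at hc
  let T := Localization.AtPrime q
  haveI : Algebra.EssFiniteType k T := Algebra.EssFiniteType.comp k A T
  have hsub : Subsingleton (ResidueField T ⊗[T] Ω[T⁄k]) := by
    refine subsingleton_of_forall_eq 0 fun z => ?_
    induction z using TensorProduct.induction_on with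
    | zero => rfl
    | add x y hx hy => rw [hx, hy, add_zero]
    | tmul c w =>
      have hw : ∀ v : Ω[T⁄k], (1 : ResidueField T) ⊗ₜ[T] v = 0 := by
        intro v
        have hv : v ∈ Submodule.span T (Set.range (D k T)) := span_range_derivation k T ▸ Submodule.mem_top
        induction hv using Submodule.span_induction with
        | zero => simp
        | add x y _ _ hx hy => rw [tmul_add, hx, hy, add_zero]
        | smul t x _ hx => rw [tmul_smul, hx, smul_zero]
        | mem x hx =>
          obtain ⟨t, rfl⟩ := hx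
          obtain ⟨⟨a, s⟩, hs⟩ := IsLocalization.surj q.primeCompl t
          have h1 := congrArg (fun v => (1 : ResidueField T) ⊗ₜ[T] D k T v) hs
          simp only [Derivation.leibniz, tmul_add, tmul_smul] at h1
          rw [show (1 : ResidueField T) ⊗ₜ[T] D k T (algebraMap A T s) = 0 from hc s,
            show (1 : ResidueField T) ⊗ₜ[T] D k T (algebraMap A T a) = 0 from hc a, smul_zero, zero_add] at h1
          exact ((IsLocalization.map_units T s).smul_eq_zero).1 h1
      rw [show c = c * 1 by rw [mul_one], ← smul_eq_mul, ← smul_tmul', hw, smul_zero]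
  haveI : Subsingleton Ω[T⁄k] := IsLocalRing.subsingleton_tensorProduct.1 hsub
  haveI : Algebra.FormallyUnramified k T := ⟨inferInstance⟩
  haveI : Module.Finite k T := Algebra.FormallyUnramified.finite_of_free k T
  haveI : Module.Finite k (ResidueField T) := Module.Finite.trans T _
  let f : A ⧸ q →ₐ[k] ResidueField T :=
    Ideal.Quotient.liftₐ q ((IsScalarTower.toAlgHom k T (ResidueField T)).comp (IsScalarTower.toAlgHom k A T))
      fun a ha => (residue_eq_zero_iff _).2 ((IsLocalization.AtPrime.to_map_mem_maximal_iff T q a).2 ha)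
  have hf : Function.Injective f := by
    rw [injective_iff_map_eq_zero]
    intro a ha
    obtain ⟨a, rfl⟩ := Ideal.Quotient.mk_surjective a
    exact Ideal.Quotient.eq_zero_iff_mem.2
      ((IsLocalization.AtPrime.to_map_mem_maximal_iff T q a).1 ((residue_eq_zero_iff _).1 ha))
  haveI : Module.Finite k (A ⧸ q) := Module.Finite.of_injective f.toLinearMap hf
  have hmax : q.IsMaximal := Ideal.Quotient.maximal_of_isField _ (isField_of_isIntegral_of_isField' (Field.toIsField k))
  exact hqp.ne (hmax.eq_of_le hp hqp.le)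

/-- A generic combination avoids finitely many vanishing conditions. -/
theorem exists_avoid [Infinite k] {ι κ : Type} [Finite ι] [Fintype κ] (V : ι → Type u)
    [∀ i, AddCommGroup (V i)] [∀ i, Module k (V i)] (w : ∀ i, V i) (v : ∀ i, κ → V i)
    (h : ∀ i, ∃ c : κ → k, w i + ∑ j, c j • v i j ≠ 0) :
    ∃ c : κ → k, ∀ i, w i + ∑ j, c j • v i j ≠ 0 := by
  classical
  haveI := Fintype.ofFinite ι
  choose c₀ hc₀ using h
  choose φ hφ using fun i => exists_dual_ne_zero' k (hc₀ i)
  let P : MvPolynomial κ k := ∏ i, (MvPolynomial.C (φ i (w i)) + ∑ j, MvPolynomial.C (φ i (v i j)) * MvPolynomial.X j)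
  have heval : ∀ (i : ι) (c : κ → k), MvPolynomial.eval c
      (MvPolynomial.C (φ i (w i)) + ∑ j, MvPolynomial.C (φ i (v i j)) * MvPolynomial.X j) =
        φ i (w i + ∑ j, c j • v i j) := by
    intro i c
    simp [map_sum, mul_comm]
  have hP : P ≠ 0 := Finset.prod_ne_zero_iff.2 fun i _ hz => hφ i (by rw [← heval, hz, map_zero])
  obtain ⟨c, hc⟩ : ∃ c, MvPolynomial.eval c P ≠ 0 := by
    by_contra hc
    push Not at hc
    exact hP (MvPolynomial.funext fun c => by rw [hc c, map_zero])
  refine ⟨c, fun i hz => hc ?_⟩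
  rw [map_prod]
  exact Finset.prod_eq_zero (Finset.mem_univ i) (by rw [heval, hz, map_zero])
where
  exists_dual_ne_zero' {V : Type u} (k : Type u) [Field k] [AddCommGroup V] [Module k V] {x : V} (hx : x ≠ 0) :
      ∃ φ : V →ₗ[k] k, φ x ≠ 0 := by
    by_contra hc
    push Not at hc
    exact hx (Module.forall_dual_apply_eq_zero_iff k x |>.1 hc)

/-- A unit near `p` correcting `u` to be smooth over the line at the primes `q i`. -/
theorem exists_unit_smoothAt [Infinite k] [Algebra.FiniteType k A] (u : A) (p : Ideal A) [p.IsPrime] (hu : u ∈ p)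
    {ι : Type} [Finite ι] (q : ι → Ideal A) [hqp : ∀ i, (q i).IsPrime] (hle : ∀ i, q i ≤ p) (hq : ∀ i, u ∉ q i)
    (hsm : ∀ i, Algebra.IsSmoothAt k (q i)) :
    ∃ e : A, e ∉ p ∧ ∀ i, e ∉ q i ∧
      ∃ f : A, f ∉ q i ∧ e ∣ f ∧ ((algebraMap A (Localization.Away f)).comp (aeval (R := k) (e * u)).toRingHom).Smooth := by
  classical
  haveI := Fintype.ofFinite ι
  have hlt : ∀ i, q i < p := fun i => lt_of_le_of_ne (hle i) fun h => hq i (h ▸ hu)
  choose a ha using fun i => exists_dfib_ne_zero k (Ideal.IsPrime.ne_top ‹p.IsPrime›) (hlt i)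
  obtain ⟨c, hc⟩ := exists_avoid k (fun i => ResidueField (Localization.AtPrime (q i)) ⊗[Localization.AtPrime (q i)]
      Ω[Localization.AtPrime (q i)⁄k]) (fun i => dfib k (q i) u) (fun i j => dfib k (q i) (a j * (u * u))) fun i => by
    by_cases hw : dfib k (q i) u = 0
    · refine ⟨Pi.single i 1, ?_⟩
      rw [Finset.sum_eq_single i (fun j _ hj => by simp [hj]) (fun h => absurd (Finset.mem_univ i) h), hw,
        Pi.single_eq_same, one_smul, zero_add]
      let T := Localization.AtPrime (q i)
      have h0 : (1 : ResidueField T) ⊗ₜ[T] D k T (algebraMap A T u) = 0 := hw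
      change (1 : ResidueField T) ⊗ₜ[T] D k T (algebraMap A T (a i * (u * u))) ≠ 0
      simp only [map_mul, Derivation.leibniz, tmul_add, tmul_smul, h0, smul_zero, zero_add, add_zero, smul_add]
      intro hz
      have hu' : IsUnit (algebraMap A T u) := IsLocalization.map_units T (⟨u, hq i⟩ : (q i).primeCompl)
      exact ha i (((hu'.mul hu').smul_eq_zero).1 hz)
    · exact ⟨0, by simpa using hw⟩
  let e : A := 1 + u * ∑ j, c j • a j
  have he : e ∉ p := fun h => Ideal.IsPrime.ne_top ‹p.IsPrime› ((Ideal.eq_top_iff_one p).2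
    ((Ideal.add_mem_iff_left p (Ideal.mul_mem_right _ p hu)).1 h))
  refine ⟨e, he, fun i => ⟨fun h => he (hle i h), ?_⟩⟩
  let T := Localization.AtPrime (q i)
  letI : Algebra k[X] A := (aeval (R := k) (e * u)).toRingHom.toAlgebra
  haveI : IsScalarTower k k[X] A := IsScalarTower.of_algebraMap_eq fun x => ((aeval (R := k) (e * u)).commutes x).symm
  haveI : Algebra.FiniteType k[X] A := Algebra.FiniteType.of_restrictScalars_finiteType k k[X] A
  haveI : Algebra.FinitePresentation k[X] A := Algebra.FinitePresentation.of_finiteType.1 inferInstance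
  haveI : Algebra.EssFiniteType k T := Algebra.EssFiniteType.comp k A T
  haveI : Algebra.FormallySmooth k T := hsm i
  haveI : IsScalarTower k k[X] T := IsScalarTower.of_algebraMap_eq fun x => by
    rw [IsScalarTower.algebraMap_apply k[X] A T, IsScalarTower.algebraMap_apply k A T,
      IsScalarTower.algebraMap_apply k k[X] A]
  haveI : Algebra.IsSmoothAt k[X] (q i) := formallySmooth_polynomial k T (by
    have h1 : algebraMap k[X] T X = algebraMap A T (e * u) := by
      rw [IsScalarTower.algebraMap_apply k[X] A T]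
      simp [RingHom.algebraMap_toAlgebra]
    rw [h1]
    change dfib k (q i) (e * u) ≠ 0
    have h2 : e * u = u + ∑ j, c j • (a j * (u * u)) := by
      simp only [e, Algebra.smul_def, add_mul, one_mul, Finset.mul_sum, Finset.sum_mul]
      exact congrArg _ (Finset.sum_congr rfl fun j _ => by ring)
    rw [h2, map_add, map_sum]
    simp_rw [map_smul]
    exact hc i)
  obtain ⟨f, hf, hf'⟩ := Algebra.IsSmoothAt.exists_notMem_smooth k[X] (q i)
  refine ⟨f * e, fun h => (hqp i).mem_or_mem h |>.elim hf (fun h => he (hle i h)), dvd_mul_left e f, ?_⟩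
  have h2 := Algebra.basicOpen_subset_smoothLocus_iff_smooth.2 hf'
  have h3 : Algebra.Smooth k[X] (Localization.Away (f * e)) :=
    Algebra.basicOpen_subset_smoothLocus_iff_smooth.1
      (Set.Subset.trans (PrimeSpectrum.basicOpen_mul_le_left f e) h2)
  have : (algebraMap k[X] (Localization.Away (f * e))).Smooth := RingHom.smooth_algebraMap.2 h3
  rwa [IsScalarTower.algebraMap_eq k[X] A (Localization.Away (f * e))] at this

end Groth.Agent.UnitSmooth4
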